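import Cfsg.Agent.H60.SixBase

/-!
# Arithmetic for `²F₄(v)`, `q = 5 ^ m` (helper228, block 6)

`v = 2 b²`, `b = 2 ^ m`; the tori `v ± 1`, `v ± √(2v) + 1`, `v² - v + 1`, `v² ± v√(2v) + v ± √(2v) + 1`.

* `W q` : the odd numbers `N` with `Ub q N`, prime to `am q`, divide `W q` (`dvd_W`);
* `small`, `big` : the final contradictions.
-/

set_option autoImplicit false

namespace Cfsg.Agent.H228.Six

open Cfsg.Agent.H376.Six Cfsg.Agent.H60.Six5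

variable {q : ℕ}

/-- the bound -/
def W (q : ℕ) : ℕ := ((q ^ 3 - 1) / 4) * (75 * ((q ^ 4 - 1) / 16))

theorem sixteen_dvd (h : Pow5 q) : 16 ∣ q ^ 4 - 1 := by
  have h1 : q ^ 4 % 16 = 1 := by
    have h2 : q % 16 = 1 ∨ q % 16 = 5 ∨ q % 16 = 9 ∨ q % 16 = 13 := by have := h.mod; omega
    rw [Nat.pow_mod]
    rcases h2 with h2 | h2 | h2 | h2 <;> rw [h2]
  omega

theorem four_dvd (h : Pow5 q) : 4 ∣ q ^ 3 - 1 := by
  have h1 : q ^ 3 % 4 = 1 := by rw [Nat.pow_mod, h.mod]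
  omega

theorem odd_dvd {N x k : ℕ} (ho : N % 2 = 1) (h : N ∣ 2 ^ k * x) : N ∣ x :=
  (Nat.Coprime.pow_right k (Nat.coprime_two_right.2 (Nat.odd_iff.2 ho))).dvd_of_dvd_mul_left h

theorem dvd_W (h : Pow5 q) {N : ℕ} (ho : N % 2 = 1) (hc : N.Coprime (am q)) (hu : Ub q N) : N ∣ W q := by
  have hq := h.le
  have h16 := sixteen_dvd h
  have key : N ∣ 75 * (q ^ 4 - 1) → N ∣ W q := by
    intro h1
    refine Dvd.dvd.mul_left (odd_dvd (k := 4) ho ?_) _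
    have e : 2 ^ 4 * (75 * ((q ^ 4 - 1) / 16)) = 75 * (q ^ 4 - 1) := by omega
    rwa [e]
  rcases hu with h1 | h1 | h1 | h1 | h1 | h1
  · refine Dvd.dvd.mul_right (odd_dvd (k := 1) ho ?_) _
    have h4 := four_dvd h
    have e : 2 ^ 1 * ((q ^ 3 - 1) / 4) = (q ^ 3 - 1) / 2 := by omega
    rwa [e]
  · apply key
    have h2 : N ∣ q ^ 3 + 1 := by
      have h5 : q ^ 3 % 2 = 1 := by rw [Nat.pow_mod, h.two]
      exact h1.trans ⟨2, by omega⟩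
    have e : q ^ 3 + 1 = (q + 1) * (q ^ 2 - q + 1) := by
      have h5 : q ≤ q ^ 2 := by nlinarith
      zify [h5]; ring
    have h3 : N ∣ ((q + 1) * 3) * am q := by
      refine h2.trans ?_
      rw [e, ← (am_spec (q := q) (by omega)).1]
      obtain ⟨c, hc⟩ := Nat.gcd_dvd_left 3 (q + 1)
      refine ⟨c, ?_⟩
      calc (q + 1) * 3 * am q = (q + 1) * (Nat.gcd 3 (q + 1) * c) * am q := by rw [← hc]
        _ = _ := by ring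
    have h4 : N ∣ (q + 1) * 3 := hc.dvd_of_dvd_mul_right h3
    refine h4.trans ?_
    have h6 : q + 1 ∣ q ^ 4 - 1 := by
      have h7 : q ^ 4 - 1 = (q + 1) * ((q - 1) * (q ^ 2 + 1)) := by
        have h8 : 1 ≤ q := by omega
        have h9 : 1 ≤ q ^ 4 := Nat.one_le_pow _ _ (by omega)
        zify [h8, h9]; ring
      exact ⟨_, h7⟩
    rw [mul_comm (q + 1) 3]
    exact mul_dvd_mul (by norm_num) h6
  · exact key ((h1.trans h.four).mul_left _)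
  · exact key (h1.trans (mul_dvd_mul (by norm_num) (sq_pm_dvd q).1))
  · exact key (h1.trans (mul_dvd_mul (by norm_num) (sq_pm_dvd q).2))
  · exact key (h1.trans (Dvd.dvd.mul_right (by norm_num) _))

theorem W_pos (h : Pow5 q) : 0 < W q := by
  have hq := h.le
  have h1 : 5 ^ 3 ≤ q ^ 3 := Nat.pow_le_pow_left hq 3
  have h2 : 5 ^ 4 ≤ q ^ 4 := Nat.pow_le_pow_left hq 4
  unfold W
  have h3 : 0 < (q ^ 3 - 1) / 4 := by omega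
  have h4 : 0 < (q ^ 4 - 1) / 16 := by omega
  positivity

theorem W_le (q : ℕ) : 64 * W q ≤ 75 * q ^ 7 := by
  unfold W
  have h1 : 4 * ((q ^ 3 - 1) / 4) ≤ q ^ 3 := by omega
  have h2 : 16 * ((q ^ 4 - 1) / 16) ≤ q ^ 4 := by omega
  calc 64 * ((q ^ 3 - 1) / 4 * (75 * ((q ^ 4 - 1) / 16)))
      = 75 * ((4 * ((q ^ 3 - 1) / 4)) * (16 * ((q ^ 4 - 1) / 16))) := by ring
    _ ≤ 75 * (q ^ 3 * q ^ 4) := Nat.mul_le_mul le_rfl (Nat.mul_le_mul h1 h2)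
    _ = 75 * q ^ 7 := by ring

/-- the small cases -/
theorem small (h : Pow5 q) {F : ℕ} (hF : F ∈ [57, 109, 37, 993, 1321, 793, 16257, 18577, 14449]) (hd : am q ∣ F) :
    False := by
  have h0 := h.le
  have hF1 : 0 < F ∧ F ≤ 18577 := by
    simp only [List.mem_cons, List.not_mem_nil, or_false] at hF
    omega
  have h1 := Nat.le_of_dvd hF1.1 hd
  have h2 := three_am (q := q) (by omega)
  have h3 : q < 625 := by
    by_contra hcon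
    push Not at hcon
    have h4 : 625 * q ≤ q ^ 2 := by nlinarith
    omega
  obtain ⟨m, hm, hq⟩ := h.pow
  have hm4 : m < 4 := by
    by_contra hcon
    push Not at hcon
    have : 5 ^ 4 ≤ 5 ^ m := Nat.pow_le_pow_right (by norm_num) hcon
    omega
  have hm' : m = 1 ∨ m = 2 ∨ m = 3 := by omega
  have key : ∀ n : ℕ, n = 7 ∨ n = 601 ∨ n = 5167 → ¬ n ∣ F := by
    simp only [List.mem_cons, List.not_mem_nil, or_false] at hF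
    rintro n (rfl | rfl | rfl) <;> rcases hF with rfl | rfl | rfl | rfl | rfl | rfl | rfl | rfl | rfl <;> norm_num
  refine key (am q) ?_ hd
  rw [hq]
  rcases hm' with rfl | rfl | rfl
  · left; decide
  · right; left; decide +kernel
  · right; right; decide +kernel

/-- the size of `q` -/
theorem size {b : ℤ} (hb : 16 ≤ b) (hq : 5 ≤ q) {N : ℤ}
    (hN : N ≤ 4 * b ^ 4 + 4 * b ^ 3 + 2 * b ^ 2 + 2 * b + 1) (hq2 : ((q ^ 2 - q + 1 : ℕ) : ℤ) ≤ 3 * N) :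
    5 * (q : ℤ) ≤ 9 * (2 * b ^ 2) := by
  have h5 : q ≤ q ^ 2 := by nlinarith
  rw [Nat.cast_add, Nat.cast_sub h5] at hq2
  push_cast at hq2
  have e2 : 16 * b ≤ b ^ 2 := by nlinarith
  have e3 : 16 * b ^ 2 ≤ b ^ 3 := by nlinarith [mul_nonneg (sq_nonneg b) (by linarith : (0 : ℤ) ≤ b - 16)]
  have e4 : 16 * b ^ 3 ≤ b ^ 4 := by
    nlinarith [mul_nonneg (pow_nonneg (by linarith : (0 : ℤ) ≤ b) 3) (by linarith : (0 : ℤ) ≤ b - 16)]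
  have h1 : 15 * N ≤ 16 * (2 * b ^ 2) ^ 2 := by
    have : (2 * b ^ 2) ^ 2 = 4 * b ^ 4 := by ring
    rw [this]
    linarith
  have hv : 512 ≤ 2 * b ^ 2 := by nlinarith
  generalize 2 * b ^ 2 = v at h1 hv ⊢
  by_contra hcon
  push Not at hcon
  have h6 : 25 * ((q : ℤ) ^ 2 - q + 1) ≤ 80 * v ^ 2 := by linarith
  nlinarith [mul_nonneg (by linarith : (0 : ℤ) ≤ 5 * q - 9 * v) (by linarith : (0 : ℤ) ≤ 5 * q + 9 * v - 5)]

theorem big {v : ℤ} (hv : 512 ≤ v) (h5 : 5 * (q : ℤ) ≤ 9 * v) {P X : ℕ} (hP : (P : ℤ) = (v ^ 4 - 1) * X)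
    (hX : 15 * (v ^ 2 * (v ^ 2 - v + 1)) ≤ 48 * (X : ℤ)) (hle : P ≤ W q) : False := by
  have h1 : (64 : ℤ) * P ≤ 75 * q ^ 7 := by
    have := (Nat.mul_le_mul (le_refl 64) hle).trans (W_le q)
    exact_mod_cast this
  have hv0 : (0 : ℤ) ≤ v := by linarith
  have h2 : (5 * (q : ℤ)) ^ 7 ≤ (9 * v) ^ 7 := pow_le_pow_left₀ (by positivity) h5 7
  have h3 : 64 * 5 ^ 7 * (P : ℤ) ≤ 75 * 9 ^ 7 * v ^ 7 := by
    calc 64 * 5 ^ 7 * (P : ℤ) = 5 ^ 7 * (64 * P) := by ring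
      _ ≤ 5 ^ 7 * (75 * (q : ℤ) ^ 7) := by linarith
      _ = 75 * (5 * (q : ℤ)) ^ 7 := by ring
      _ ≤ 75 * (9 * v) ^ 7 := by linarith
      _ = 75 * 9 ^ 7 * v ^ 7 := by ring
  have h4 : (0 : ℤ) < v ^ 4 - 1 := by
    have : (512 : ℤ) ^ 4 ≤ v ^ 4 := pow_le_pow_left₀ (by norm_num) hv 4
    norm_num at this
    linarith
  have h6 : 15 * ((v ^ 4 - 1) * (v ^ 2 * (v ^ 2 - v + 1))) ≤ 48 * (P : ℤ) := by
    rw [hP]
    nlinarith [mul_le_mul_of_nonneg_left hX h4.le]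
  have h7 : v ^ 7 * (v - 1) ≤ (v ^ 4 - 1) * (v ^ 2 * (v ^ 2 - v + 1)) := by
    have e : (v ^ 4 - 1) * (v ^ 2 * (v ^ 2 - v + 1)) = v ^ 7 * (v - 1) + v ^ 2 * (v ^ 2 * (v ^ 2 - 1) + (v - 1)) := by ring
    rw [e]
    have h8 : (0 : ℤ) ≤ v ^ 2 - 1 := by nlinarith
    have h9 : (0 : ℤ) ≤ v ^ 2 * (v ^ 2 * (v ^ 2 - 1) + (v - 1)) := by
      apply mul_nonneg (sq_nonneg v)
      have := mul_nonneg (sq_nonneg v) h8
      linarith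
    linarith
  have h10 : (0 : ℤ) < v ^ 7 := by positivity
  have h11 : (511 : ℤ) * v ^ 7 ≤ v ^ 7 * (v - 1) := by nlinarith
  norm_num at h3
  linarith

/-! ### coprimality -/

theorem cop2 {X Y : ℕ} {x y : ℤ} (hX : X % 2 = 1) (h : x * X + y * Y = 2) : Nat.Coprime X Y := by
  refine Nat.coprime_of_dvd fun r hr h1 h2 => ?_
  have h3 : (r : ℤ) ∣ 2 := by
    rw [← h]
    exact dvd_add ((Int.natCast_dvd_natCast.2 h1).mul_left _) ((Int.natCast_dvd_natCast.2 h2).mul_left _)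
  have h4 : r = 2 := (Nat.prime_dvd_prime_iff_eq hr Nat.prime_two).1 (by exact_mod_cast h3)
  subst h4
  omega

theorem cop3 {X Y : ℕ} {x y : ℤ} (hX : ¬ 3 ∣ X) (h : x * X + y * Y = 3) : Nat.Coprime X Y := by
  refine Nat.coprime_of_dvd fun r hr h1 h2 => ?_
  have h3 : (r : ℤ) ∣ 3 := by
    rw [← h]
    exact dvd_add ((Int.natCast_dvd_natCast.2 h1).mul_left _) ((Int.natCast_dvd_natCast.2 h2).mul_left _)
  have h4 : r = 3 := (Nat.prime_dvd_prime_iff_eq hr Nat.prime_three).1 (by exact_mod_cast h3)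
  subst h4
  exact hX h1

/-- the numbers -/
structure Nums (b : ℤ) (N₁ N₂ N₃ N₄ N₅ N₆ N₇ : ℕ) : Prop where
  h1 : (N₁ : ℤ) = 2 * b ^ 2 - 1
  h2 : (N₂ : ℤ) = 2 * b ^ 2 + 1
  h3 : (N₃ : ℤ) = 2 * b ^ 2 + 2 * b + 1
  h4 : (N₄ : ℤ) = 2 * b ^ 2 - 2 * b + 1
  h5 : 3 * (N₅ : ℤ) = 4 * b ^ 4 - 2 * b ^ 2 + 1
  h6 : (N₆ : ℤ) = 4 * b ^ 4 + 4 * b ^ 3 + 2 * b ^ 2 + 2 * b + 1
  h7 : (N₇ : ℤ) = 4 * b ^ 4 - 4 * b ^ 3 + 2 * b ^ 2 - 2 * b + 1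

namespace Nums

variable {b : ℤ} {N₁ N₂ N₃ N₄ N₅ N₆ N₇ : ℕ} (h : Nums b N₁ N₂ N₃ N₄ N₅ N₆ N₇)

theorem odd_of {N : ℕ} {z : ℤ} (hz : (N : ℤ) = 2 * z + 1) : N % 2 = 1 := by omega

include h

theorem o1 : N₁ % 2 = 1 := odd_of (z := b ^ 2 - 1) (by rw [h.h1]; ring)
theorem o2 : N₂ % 2 = 1 := odd_of (z := b ^ 2) (by rw [h.h2])
theorem o3 : N₃ % 2 = 1 := odd_of (z := b ^ 2 + b) (by rw [h.h3]; ring)
theorem o4 : N₄ % 2 = 1 := odd_of (z := b ^ 2 - b) (by rw [h.h4]; ring)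
theorem o6 : N₆ % 2 = 1 := odd_of (z := 2 * b ^ 4 + 2 * b ^ 3 + b ^ 2 + b) (by rw [h.h6]; ring)
theorem o7 : N₇ % 2 = 1 := odd_of (z := 2 * b ^ 4 - 2 * b ^ 3 + b ^ 2 - b) (by rw [h.h7]; ring)
theorem o5 : N₅ % 2 = 1 := by
  have h1 : (3 * N₅) % 2 = 1 := odd_of (z := 2 * b ^ 4 - b ^ 2) (by push_cast; rw [h.h5]; ring)
  omega

theorem t5 : ¬ 3 ∣ N₅ := by
  rintro ⟨c, hc⟩
  have h1 := h.h5
  rw [hc] at h1
  have h2 : ((4 * b ^ 4 - 2 * b ^ 2 + 1 : ℤ) : ZMod 9) = 0 :=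
    (ZMod.intCast_zmod_eq_zero_iff_dvd _ 9).2 ⟨c, by rw [← h1]; push_cast; ring⟩
  push_cast at h2
  generalize (b : ZMod 9) = x at h2
  revert h2; revert x; decide

theorem t67 : ¬ 3 ∣ N₆ * N₇ := by
  intro h1
  have h2 : (((N₆ * N₇ : ℕ) : ℤ) : ZMod 3) = 0 :=
    (ZMod.intCast_zmod_eq_zero_iff_dvd _ 3).2 (Int.natCast_dvd_natCast.2 h1)
  rw [Nat.cast_mul, h.h6, h.h7] at h2
  push_cast at h2
  generalize (b : ZMod 3) = x at h2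
  revert h2; revert x; decide

theorem c12 : N₁.Coprime N₂ := cop2 (x := -1) (y := 1) h.o1 (by rw [h.h1, h.h2]; ring)
theorem c34 : N₃.Coprime N₄ := cop2 (x := 1 - b) (y := 1 + b) h.o3 (by rw [h.h3, h.h4]; ring)
theorem c1234 : (N₁ * N₂).Coprime (N₃ * N₄) := by
  refine cop2 (x := -1) (y := 1) ?_ (by push_cast; rw [h.h1, h.h2, h.h3, h.h4]; ring)
  rw [Nat.mul_mod, h.o1, h.o2]
theorem c67 : N₆.Coprime N₇ := cop2 (x := 1 - b) (y := 1 + b) h.o6 (by rw [h.h6, h.h7]; ring)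

theorem cast4 : ((N₁ * N₂ * (N₃ * N₄) : ℕ) : ℤ) = (2 * b ^ 2) ^ 4 - 1 := by
  push_cast; rw [h.h1, h.h2, h.h3, h.h4]; ring

theorem cast67 : ((N₆ * N₇ : ℕ) : ℤ) = (2 * b ^ 2) ^ 4 - (2 * b ^ 2) ^ 2 + 1 := by
  push_cast; rw [h.h6, h.h7]; ring

theorem cP67 : (N₁ * N₂ * (N₃ * N₄)).Coprime (N₆ * N₇) := by
  refine (cop3 (x := (2 * b ^ 2) ^ 2 + 2) (y := -((2 * b ^ 2) ^ 2 + 1)) h.t67 ?_).symm
  rw [h.cast67, h.cast4]
  ring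

theorem c5P : N₅.Coprime (N₁ * N₂ * (N₃ * N₄)) := by
  refine cop3 (x := 3 * (1 - (2 * b ^ 2 - 2) * (2 * b ^ 2) * (2 * b ^ 2 + 1))) (y := 2 * b ^ 2 - 2) h.t5 ?_
  rw [h.cast4]
  linear_combination (1 - (2 * b ^ 2 - 2) * (2 * b ^ 2) * (2 * b ^ 2 + 1)) * h.h5

theorem c567 : N₅.Coprime (N₆ * N₇) := by
  refine cop2 (x := 3 * (2 - (2 * b ^ 2) * ((2 * b ^ 2) ^ 2 + 2 * b ^ 2 - 1))) (y := 2 * b ^ 2) h.o5 ?_
  rw [h.cast67]
  linear_combination (2 - (2 * b ^ 2) * ((2 * b ^ 2) ^ 2 + 2 * b ^ 2 - 1)) * h.h5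

theorem cP5 : (N₁ * N₂ * (N₃ * N₄)).Coprime N₅ := h.c5P.symm
theorem cP6 : (N₁ * N₂ * (N₃ * N₄)).Coprime N₆ := h.cP67.coprime_mul_right_right
theorem cP7 : (N₁ * N₂ * (N₃ * N₄)).Coprime N₇ := h.cP67.coprime_mul_left_right
theorem c56 : N₅.Coprime N₆ := h.c567.coprime_mul_right_right
theorem c57 : N₅.Coprime N₇ := h.c567.coprime_mul_left_right

theorem dvd4 {M : ℕ} (d1 : N₁ ∣ M) (d2 : N₂ ∣ M) (d3 : N₃ ∣ M) (d4 : N₄ ∣ M) : N₁ * N₂ * (N₃ * N₄) ∣ M :=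
  h.c1234.mul_dvd_of_dvd_of_dvd (h.c12.mul_dvd_of_dvd_of_dvd d1 d2) (h.c34.mul_dvd_of_dvd_of_dvd d3 d4)

/-- what is coprime to the product is coprime to the factors -/
theorem of4 {x : ℕ} (hx : (N₁ * N₂ * (N₃ * N₄)).Coprime x) :
    N₁.Coprime x ∧ N₂.Coprime x ∧ N₃.Coprime x ∧ N₄.Coprime x :=
  ⟨hx.coprime_mul_right.coprime_mul_right, hx.coprime_mul_right.coprime_mul_left,
    hx.coprime_mul_left.coprime_mul_right, hx.coprime_mul_left.coprime_mul_left⟩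

/-- **The contradiction for large `b`.** -/
theorem final (hb : 16 ≤ b) (P : Pow5 q) (hle : ((q ^ 2 - q + 1 : ℕ) : ℤ) ≤ 3 * N₆) {U V : ℕ}
    (hPU : (N₁ * N₂ * (N₃ * N₄)).Coprime U) (hPV : (N₁ * N₂ * (N₃ * N₄)).Coprime V) (hUV : U.Coprime V)
    (d1 : N₁ ∣ W q) (d2 : N₂ ∣ W q) (d3 : N₃ ∣ W q) (d4 : N₄ ∣ W q) (dU : U ∣ W q) (dV : V ∣ W q)
    (hU : 4 * b ^ 4 - 2 * b ^ 2 + 1 ≤ 3 * (U : ℤ)) (hV : (N₇ : ℤ) ≤ V) : False := by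
  have h1 : N₁ * N₂ * (N₃ * N₄) * (U * V) ∣ W q :=
    (hPU.mul_right hPV).mul_dvd_of_dvd_of_dvd (h.dvd4 d1 d2 d3 d4) (hUV.mul_dvd_of_dvd_of_dvd dU dV)
  have h2 := Nat.le_of_dvd (W_pos P) h1
  have hv : 512 ≤ 2 * b ^ 2 := by nlinarith
  have h3 := size hb P.le (N := N₆) h.h6.le hle
  refine big hv h3 (P := N₁ * N₂ * (N₃ * N₄) * (U * V)) (X := U * V) ?_ ?_ h2
  · rw [Nat.cast_mul, h.cast4]
  · have e7 : 15 * (2 * b ^ 2) ^ 2 ≤ 16 * (V : ℤ) := by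
      have e2 : 16 * b ≤ b ^ 2 := by nlinarith
      have e3 : 16 * b ^ 2 ≤ b ^ 3 := by nlinarith [mul_nonneg (sq_nonneg b) (by linarith : (0 : ℤ) ≤ b - 16)]
      have e4 : 16 * b ^ 3 ≤ b ^ 4 := by
        nlinarith [mul_nonneg (pow_nonneg (by linarith : (0 : ℤ) ≤ b) 3) (by linarith : (0 : ℤ) ≤ b - 16)]
      have e5 : (2 * b ^ 2) ^ 2 = 4 * b ^ 4 := by ring
      rw [e5]
      have := h.h7
      linarith
    have e0 : (2 * b ^ 2) ^ 2 - 2 * b ^ 2 + 1 ≤ 3 * (U : ℤ) := by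
      have : (2 * b ^ 2) ^ 2 = 4 * b ^ 4 := by ring
      rw [this]; exact hU
    have e6 : (0 : ℤ) ≤ (2 * b ^ 2) ^ 2 - 2 * b ^ 2 + 1 := by nlinarith
    have e8 := mul_le_mul e7 e0 e6 (by positivity)
    push_cast
    nlinarith [e8]

end Nums

end Cfsg.Agent.H228.Six
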