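import Cfsg.Agent.H228.Six.NumTF
import Cfsg.Agent.H390.B6.Congr
import Cfsg.Agent.H378.TwRowsF
import Cfsg.Agent.H371.Core.TwF4
import Cfsg.Agent.H129.CycCardF
import Cfsg.Agent.H129.CycRow
import Cfsg.Agent.H659.TwF4Ord
import Cfsg.Agent.H436.Names

/-!
# Elimination of `²F₄(v)`, `q = 5 ^ m` (helper228, block 6)

* `tf4'` : `Iso2F4 S → E5 q S → False`;
* `tf4` : the row.
-/

set_option autoImplicit false
set_option linter.unusedSectionVars false

namespace Cfsg.Agent.H228.Six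

open Cfsg Cfsg.Lie Cfsg.Agent.H376.Six Cfsg.Agent.H60.Six5 Cfsg.Agent.H129 Cfsg.Agent.H129.CycT Cfsg.Agent.H129.CycCard
open Cfsg.Agent.H493.PGF4T Cfsg.Agent.H378.TwRowsF Cfsg.Agent.H94.PG Cfsg.Agent.H436

universe u

variable {q : ℕ}

/-- The order of an element whose order is divisible by `r` divides the order of the torus. -/
theorem cent_dvd {G : Type*} [Group G] [Finite G] {r m d : ℕ} (hr : r.Prime) (h : CycCard G r m d) {x : G}
    (hx : r ∣ orderOf x) : orderOf x ∣ m := by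
  obtain ⟨T, h1, h2, -, h4, h5⟩ := h
  obtain ⟨c, hc⟩ := hx
  have hc0 : c ≠ 0 := by
    rintro rfl
    rw [mul_zero] at hc
    exact (orderOf_pos x).ne' hc
  have hy : orderOf (x ^ c) = r := by
    rw [orderOf_pow_of_dvd hc0 (by rw [hc]; exact Dvd.intro_left _ rfl), hc,
      Nat.mul_div_cancel _ (Nat.pos_of_ne_zero hc0)]
  obtain ⟨g, -, hg⟩ := centralizer_conj h1 hr h4 h5 hy
  have h6 : x ∈ Subgroup.centralizer ({x ^ c} : Set G) := by
    rw [Subgroup.mem_centralizer_singleton_iff, ← pow_succ, ← pow_succ']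
  have h7 := (hg x).1 h6
  have h8 : orderOf (g * x * g⁻¹) = orderOf x :=
    orderOf_injective (MulAut.conj g).toMonoidHom (MulAut.conj g).injective x
  rw [← h8]
  exact (Subgroup.orderOf_dvd_natCard T h7).trans h2

/-- The primes of `am q` are not adjacent to two. -/
theorem not_adj {S : Type u} [Group S] (h : E5 q S) {s : ℕ} (hs : s ∣ am q) : ¬ Adj S s 2 := by
  rintro ⟨hsp, -, hs2, x, y, hx, hy, hxy⟩
  have P := pow5 h.pow
  have hc : Nat.Coprime (orderOf x) (orderOf y) := by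
    rw [hx, hy]
    exact (Nat.coprime_primes hsp Nat.prime_two).2 hs2
  have h1 := hxy.orderOf_mul_eq_mul_orderOf_of_coprime hc
  rw [hx, hy] at h1
  have h2 := dvd_B P hsp hs (dvd_mul_right s 2) (h.ub' ⟨_, h1⟩)
  have h3 : 2 ∣ (q ^ 3 + 1) / 2 := (dvd_mul_left 2 s).trans h2
  have h4 := P.B
  have h5 := four_dvd P
  omega

/-- the values for `m ≤ 3` -/
theorem small_val {b : ℤ} {N₁ N₂ N₃ N₄ N₅ N₆ N₇ : ℕ} (h : Nums b N₁ N₂ N₃ N₄ N₅ N₆ N₇) (hb : b = 2 ∨ b = 4 ∨ b = 8) :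
    3 * N₅ ∈ [57, 109, 37, 993, 1321, 793, 16257, 18577, 14449] ∧
    N₆ ∈ [57, 109, 37, 993, 1321, 793, 16257, 18577, 14449] ∧
    N₇ ∈ [57, 109, 37, 993, 1321, 793, 16257, 18577, 14449] := by
  have h5 := h.h5
  have h6 := h.h6
  have h7 := h.h7
  simp only [List.mem_cons, List.not_mem_nil, or_false]
  rcases hb with rfl | rfl | rfl <;> norm_num at h5 h6 h7 <;> refine ⟨?_, ?_, ?_⟩ <;> omega

section

variable {K : Type u} [Field K] [Fintype K] {m : ℕ} (hm : 1 ≤ m) (hK : Fintype.card K = 2 ^ (2 * m + 1))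

include hK

theorem exists_775 (hm : m = 2) : ∃ g : ↥(twistedF4 K (2 ^ m)), orderOf g = 775 := by
  subst hm
  refine H371.Core.TwF4.exists_orderOf (m := 2) hK hA chainC_ok (Th := ThC) hThC (by norm_num) (by norm_num)
    (L := ![-4, -124, 31, -32]) (U := ![0, 0, 0, -1]) ?_ ?_
  · decide +kernel
  · rw [show ((775 : ℕ) : ℤ) = 775 from rfl,
      show (∑ i, (![0, 0, 0, -1] : Fin 4 → ℤ) i * (![-4, -124, 31, -32] : Fin 4 → ℤ) i) = 32 by decide]
    exact ⟨-9, 218, by norm_num⟩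

/-- No element of order 25. -/
theorem no_25 (hm : 1 ≤ m) (h : E5 q ↥(twistedF4 K (2 ^ m))) : ¬ ∃ x : ↥(twistedF4 K (2 ^ m)), orderOf x = 25 := by
  rintro ⟨x, hx⟩
  have P := pow5 h.pow
  have hv : Fintype.card K ^ 2 + 1 = (2 * (2 ^ m) ^ 2) ^ 2 + 1 := by
    rw [hK]
    ring
  have hb : (2 : ℤ) ≤ 2 ^ m := by
    calc (2 : ℤ) = 2 ^ 1 := by norm_num
      _ ≤ 2 ^ m := pow_le_pow_right₀ (by norm_num) hm
  -- `5 ∣ v² + 1`
  have h5 : (5 : ℤ) ∣ ((Fintype.card K : ℕ) : ℤ) ^ 2 + 1 := by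
    have h1 : (((Fintype.card K : ℕ) : ℤ) ^ 2 + 1 : ℤ) = 4 * 16 ^ m + 1 := by
      rw [hK]
      push_cast
      have e : ((2 : ℤ) ^ (2 * m + 1)) ^ 2 = 4 * (2 ^ 4) ^ m := by
        rw [← pow_mul, ← pow_mul]
        rw [show (2 * m + 1) * 2 = 4 * m + 2 by ring, pow_add]
        ring
      rw [e]; norm_num
    rw [h1]
    have h2 : (16 : ℤ) ^ m ≡ 1 [ZMOD 5] := by
      have : (16 : ℤ) ^ m ≡ 1 ^ m [ZMOD 5] := Int.ModEq.pow m (by decide)
      simpa using this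
    have h3 : (4 * 16 ^ m + 1 : ℤ) ≡ 4 * 1 + 1 [ZMOD 5] := Int.ModEq.add_right 1 (Int.ModEq.mul_left 4 h2)
    exact (Int.modEq_zero_iff_dvd).1 (h3.trans (by decide))
  have h25 : 25 ∣ Fintype.card K ^ 2 + 1 := by
    rw [← hx]
    refine H659.TwF4Ord.dvd_four hK fun s hs hsx => ?_
    rw [hx] at hsx
    have : s = 5 := (Nat.prime_dvd_prime_iff_eq hs Nat.prime_five).1
      (hs.dvd_of_dvd_pow (show s ∣ 5 ^ 2 by norm_num; exact hsx))
    rw [this]
    exact_mod_cast h5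
  obtain ⟨A, hA1⟩ := Int.eq_ofNat_of_zero_le (show 0 ≤ fp (2 ^ m) by unfold fp; positivity)
  obtain ⟨C, hC1⟩ := Int.eq_ofNat_of_zero_le (show 0 ≤ fm (2 ^ m) by unfold fm; nlinarith)
  have gA := H371.Core.TwF4.exists_cert hK chainB_ok hThB certB_fp (N := A) hA1.symm
  have gC := H371.Core.TwF4.exists_cert hK chainC_ok hThC certC_fm (N := C) hC1.symm
  unfold fp at hA1
  unfold fm at hC1
  have hAo : A % 2 = 1 := by
    have e : (2 * (2 ^ m) ^ 2 + 2 * 2 ^ m + 1 : ℤ) = 2 * ((2 ^ m) ^ 2 + 2 ^ m) + 1 := by ring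
    rw [e] at hA1
    omega
  have hcop : A.Coprime C := cop2 (x := 1 - 2 ^ m) (y := 1 + 2 ^ m) hAo (by rw [← hA1, ← hC1]; ring)
  have hAC : Fintype.card K ^ 2 + 1 = A * C := by
    rw [hv]
    have : (((2 * (2 ^ m) ^ 2) ^ 2 + 1 : ℕ) : ℤ) = ((A * C : ℕ) : ℤ) := by
      push_cast
      rw [← hA1, ← hC1]
      ring
    exact_mod_cast this
  rw [hAC] at h25
  have h25' : 25 ∣ A ∨ 25 ∣ C := by
    have h1 : 5 ∣ A * C := (by norm_num : (5 : ℕ) ∣ 25).trans h25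
    rcases (Nat.prime_five.dvd_mul).1 h1 with h2 | h2
    · left
      have h3 : Nat.Coprime 25 C := by
        have h4 : Nat.Coprime 5 C := by
          rw [Nat.prime_five.coprime_iff_not_dvd]
          intro h5
          have := Nat.dvd_gcd h2 h5
          rw [hcop] at this
          norm_num at this
        exact Nat.Coprime.pow_left 2 h4
      exact h3.dvd_of_dvd_mul_right h25
    · right
      have h3 : Nat.Coprime 25 A := by
        have h4 : Nat.Coprime 5 A := by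
          rw [Nat.prime_five.coprime_iff_not_dvd]
          intro h5
          have := Nat.dvd_gcd h5 h2
          rw [hcop] at this
          norm_num at this
        exact Nat.Coprime.pow_left 2 h4
      exact h3.dvd_of_dvd_mul_left h25
  rcases h25' with h1 | h1
  · have h2 := eq_25 P h1 (h.ub' gA)
    rw [h2] at hA1
    generalize hbb : (2 : ℤ) ^ m = b at *
    have h3 : b * b + b = 12 := by push_cast at hA1; nlinarith
    have h4 : b = 3 := by nlinarith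
    rw [h4] at hbb
    have h6 : (2 : ℤ) ∣ 3 := by rw [← hbb]; exact dvd_pow_self 2 (by omega)
    norm_num at h6
  · have h2 := eq_25 P h1 (h.ub' gC)
    rw [h2] at hC1
    have hm2 : m = 2 := by
      generalize hbb : (2 : ℤ) ^ m = b at *
      have h3 : b * b - b = 12 := by push_cast at hC1; nlinarith
      have h4 : b = 4 := by nlinarith
      rw [h4] at hbb
      have h6 : 2 ^ m = 2 ^ 2 := by
        have : ((2 ^ m : ℕ) : ℤ) = 4 := by push_cast; exact hbb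
        exact_mod_cast this
      exact Nat.pow_right_injective (le_refl 2) h6
    have h3 := eq_25 P (by norm_num) (h.ub' (exists_775 hK hm2))
    norm_num at h3

theorem core (hm : 1 ≤ m) (h : E5 q ↥(twistedF4 K (2 ^ m))) : False := by
  have P := pow5 h.pow
  have hq := P.le
  obtain ⟨y, hy⟩ : ∃ y : ↥(twistedF4 K (2 ^ m)), orderOf y = am q := by
    rcases h.five with ⟨-, h1, -⟩ | h1
    · exact h1
    · exact absurd h1 (no_25 hK hm h)
  obtain ⟨s, hs, hsa⟩ := exists_am P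
  obtain ⟨hs2, hs3, -⟩ := am_ne (q := q) (by omega) hs hsa
  have hadj : ¬ Adj ↥(twistedF4 K (2 ^ m)) s 2 := not_adj h hsa
  have hsy : s ∣ orderOf y := by rw [hy]; exact hsa
  have hsS : s ∣ Nat.card ↥(twistedF4 K (2 ^ m)) := hsy.trans (orderOf_dvd_natCard y)
  rw [Cfsg.Agent.S1068.result hK] at hsS
  have hb : (2 : ℤ) ≤ 2 ^ m := by
    calc (2 : ℤ) = 2 ^ 1 := by norm_num
      _ ≤ 2 ^ m := pow_le_pow_right₀ (by norm_num) hm
  have hcK := cast_card hK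
  have to_nat : ∀ {n : ℕ} {z : ℤ}, (s : ℤ) ∣ z → z ∣ (n : ℤ) → s ∣ n := fun h1 h2 =>
    Int.natCast_dvd_natCast.1 (h1.trans h2)
  -- the numbers
  obtain ⟨N₁, e1⟩ := Int.eq_ofNat_of_zero_le (show 0 ≤ f1 (2 ^ m) by unfold f1; nlinarith)
  obtain ⟨N₂, e2⟩ := Int.eq_ofNat_of_zero_le (show 0 ≤ f2 (2 ^ m) by unfold f2; positivity)
  obtain ⟨N₃, e3⟩ := Int.eq_ofNat_of_zero_le (show 0 ≤ fp (2 ^ m) by unfold fp; positivity)
  obtain ⟨N₄, e4⟩ := Int.eq_ofNat_of_zero_le (show 0 ≤ fm (2 ^ m) by unfold fm; nlinarith)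
  obtain ⟨M₅, e5⟩ := Int.eq_ofNat_of_zero_le (show 0 ≤ f6 (2 ^ m) by
    unfold f6; nlinarith [sq_nonneg ((2 : ℤ) * (2 ^ m) ^ 2 - 1)])
  obtain ⟨N₆, e6⟩ := Int.eq_ofNat_of_zero_le (show 0 ≤ fP (2 ^ m) by unfold fP; positivity)
  obtain ⟨N₇, e7⟩ := Int.eq_ofNat_of_zero_le (show 0 ≤ fM (2 ^ m) by
    unfold fM
    nlinarith [pow_pos (by linarith : (0 : ℤ) < 2 ^ m) 3,
      mul_pos (pow_pos (by linarith : (0 : ℤ) < 2 ^ m) 3) (by linarith : (0 : ℤ) < 2 ^ m - 1)])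
  have g1 := H371.Core.TwF4.exists_cert hK chainA_ok hThA certA_f1 (N := N₁) e1.symm
  have g2 := H371.Core.TwF4.exists_cert hK chainA_ok hThA certA_f2 (N := N₂) e2.symm
  have g3 := H371.Core.TwF4.exists_cert hK chainB_ok hThB certB_fp (N := N₃) e3.symm
  have g4 := H371.Core.TwF4.exists_cert hK chainC_ok hThC certC_fm (N := N₄) e4.symm
  have g5 := H371.Core.TwF4.exists_cert hK chainD_ok hThD certD_f6 (N := M₅) e5.symm
  have g6 := H371.Core.TwF4.exists_cert hK chainEp_ok hThEp certEp_fP (N := N₆) e6.symm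
  have g7 := H371.Core.TwF4.exists_cert hK chainEm_ok hThEm certEm_fM (N := N₇) e7.symm
  -- three divides
  have h3 : 3 ∣ M₅ := by
    apply Int.natCast_dvd_natCast.1
    rw [show ((M₅ : ℕ) : ℤ) = f6 (2 ^ m) from e5.symm]
    exact (H493.PGF4T.three_dvd m).2
  obtain ⟨N₅, rfl⟩ := h3
  have g5' : ∃ x : ↥(twistedF4 K (2 ^ m)), orderOf x = N₅ := by
    obtain ⟨x, hx⟩ := g5
    refine ⟨x ^ 3, ?_⟩
    rw [orderOf_pow_of_dvd (by norm_num) (by rw [hx]; exact dvd_mul_right 3 _), hx]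
    omega
  have hN : Nums (2 ^ m) N₁ N₂ N₃ N₄ N₅ N₆ N₇ := by
    refine ⟨?_, ?_, ?_, ?_, ?_, ?_, ?_⟩
    · exact e1.symm
    · exact e2.symm
    · exact e3.symm
    · exact e4.symm
    · have := e5
      rw [show ((3 * N₅ : ℕ) : ℤ) = 3 * (N₅ : ℤ) by push_cast; ring] at this
      exact this.symm
    · exact e6.symm
    · exact e7.symm
  have hbs : ((2 : ℤ) ^ m = 2 ∨ (2 : ℤ) ^ m = 4 ∨ (2 : ℤ) ^ m = 8) ∨ 16 ≤ (2 : ℤ) ^ m := by
    rcases (show m = 1 ∨ m = 2 ∨ m = 3 ∨ 4 ≤ m by omega) with rfl | rfl | rfl | h4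
    · left; left; norm_num
    · left; right; left; norm_num
    · left; right; right; norm_num
    · right
      calc (16 : ℤ) = 2 ^ 4 := by norm_num
        _ ≤ 2 ^ m := pow_le_pow_right₀ (by norm_num) h4
  have ham := three_am (q := q) (by omega)
  -- the sizes
  have hle6 : 4 * ((2 : ℤ) ^ m) ^ 4 - 2 * (2 ^ m) ^ 2 + 1 ≤ N₆ := by
    rw [hN.h6]
    have : (0 : ℤ) ≤ 4 * (2 ^ m) ^ 3 + 4 * (2 ^ m) ^ 2 + 2 * 2 ^ m := by positivity
    linarith
  have hle7 : (N₇ : ℤ) ≤ N₆ := by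
    rw [hN.h6, hN.h7]
    have : (0 : ℤ) ≤ 8 * (2 ^ m) ^ 3 + 4 * 2 ^ m := by positivity
    linarith
  have hsize : ∀ {F : ℕ}, 0 < F → am q ∣ F → (F : ℤ) ≤ N₆ → ((q ^ 2 - q + 1 : ℕ) : ℤ) ≤ 3 * N₆ := by
    intro F hF0 hF hF6
    have h1 := Nat.le_of_dvd hF0 hF
    have h2 : ((q ^ 2 - q + 1 : ℕ) : ℤ) ≤ 3 * (am q : ℤ) := by exact_mod_cast ham
    have h4 : (am q : ℤ) ≤ F := by exact_mod_cast h1
    linarith
  have hpos5 : 0 < 3 * N₅ := by have := hN.o5; omega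
  have hpos6 : 0 < N₆ := by have := hN.o6; omega
  have hpos7 : 0 < N₇ := by have := hN.o7; omega
  rcases cover hs hsS with (h1 | h1 | h1 | h1 | h1 | h1) | h1 | h1
  · exact hs2 h1
  · exact hadj (adj_minus hK hs hs2 h1)
  · refine hadj (adj_plus hK hs hs2 (to_nat h1 ?_))
    push_cast
    rw [hcK]
    exact ⟨1, by unfold f2; ring⟩
  · refine hadj (adj_sq hK hs hs2 (to_nat h1 ?_))
    push_cast
    rw [hcK]
    exact ⟨fm (2 ^ m), by unfold fp fm; ring⟩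
  · refine hadj (adj_sq hK hs hs2 (to_nat h1 ?_))
    push_cast
    rw [hcK]
    exact ⟨fp (2 ^ m), by unfold fp fm; ring⟩
  · -- `v² - v + 1`
    have h2 : am q ∣ 3 * N₅ := by
      rw [← hy]
      refine cent_dvd hs (card_tF4_6 hK (N := 3 * N₅) ?_ hs ?_ hs3) hsy
      · rw [show ((3 * N₅ : ℕ) : ℤ) = f6 (2 ^ m) from e5.symm]; unfold f6; ring
      · have e : (1 - 2 * (2 ^ m) ^ 2 + 4 * (2 ^ m) ^ 4 : ℤ) = f6 (2 ^ m) := by unfold f6; ring
        rw [e]; exact h1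
    rcases hbs with h4 | h4
    · exact small P (small_val hN h4).1 h2
    · have h5 : am q ∣ N₅ := by
        refine Nat.Coprime.dvd_of_dvd_mul_left ?_ h2
        exact ((Nat.Prime.coprime_iff_not_dvd Nat.prime_three).2 (am_spec (q := q) (by omega)).2).symm
      obtain ⟨c1, c2, c3, c4⟩ := hN.of4 hN.cP5
      refine hN.final h4 P (hsize hpos5 h2 ?_) hN.cP6 hN.cP7 hN.c67 (dvd_W P hN.o1 (c1.coprime_dvd_right h5) (h.ub' g1))
        (dvd_W P hN.o2 (c2.coprime_dvd_right h5) (h.ub' g2)) (dvd_W P hN.o3 (c3.coprime_dvd_right h5) (h.ub' g3))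
        (dvd_W P hN.o4 (c4.coprime_dvd_right h5) (h.ub' g4))
        (dvd_W P hN.o6 (hN.c56.symm.coprime_dvd_right h5) (h.ub' g6))
        (dvd_W P hN.o7 (hN.c57.symm.coprime_dvd_right h5) (h.ub' g7)) ?_ le_rfl
      · push_cast; rw [hN.h5]; exact hle6
      · have : (0 : ℤ) ≤ N₆ := Int.natCast_nonneg _
        linarith
  · have h2 : am q ∣ N₆ := by
      rw [← hy]
      refine cent_dvd hs (card_tF4_plus hK (N := N₆) ?_ hs ?_) hsy
      · rw [hN.h6]; ring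
      · have e : (1 + 2 * (2 ^ m) + 2 * (2 ^ m) ^ 2 + 4 * (2 ^ m) ^ 3 + 4 * (2 ^ m) ^ 4 : ℤ) = fP (2 ^ m) := by
          unfold fP; ring
        rw [e]; exact h1
    rcases hbs with h4 | h4
    · exact small P (small_val hN h4).2.1 h2
    · obtain ⟨c1, c2, c3, c4⟩ := hN.of4 hN.cP6
      refine hN.final h4 P (hsize hpos6 h2 le_rfl) hN.cP5 hN.cP7 hN.c57 (dvd_W P hN.o1 (c1.coprime_dvd_right h2) (h.ub' g1))
        (dvd_W P hN.o2 (c2.coprime_dvd_right h2) (h.ub' g2)) (dvd_W P hN.o3 (c3.coprime_dvd_right h2) (h.ub' g3))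
        (dvd_W P hN.o4 (c4.coprime_dvd_right h2) (h.ub' g4))
        (dvd_W P hN.o5 (hN.c56.coprime_dvd_right h2) (h.ub' g5'))
        (dvd_W P hN.o7 (hN.c67.symm.coprime_dvd_right h2) (h.ub' g7)) hN.h5.ge le_rfl
  · have h2 : am q ∣ N₇ := by
      rw [← hy]
      refine cent_dvd hs (card_tF4_minus hK (N := N₇) ?_ hs ?_) hsy
      · rw [hN.h7]; ring
      · have e : (1 - 2 * (2 ^ m) + 2 * (2 ^ m) ^ 2 - 4 * (2 ^ m) ^ 3 + 4 * (2 ^ m) ^ 4 : ℤ) = fM (2 ^ m) := by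
          unfold fM; ring
        rw [e]; exact h1
    rcases hbs with h4 | h4
    · exact small P (small_val hN h4).2.2 h2
    · obtain ⟨c1, c2, c3, c4⟩ := hN.of4 hN.cP7
      refine hN.final h4 P (hsize hpos7 h2 hle7) hN.cP5 hN.cP6 hN.c56 (dvd_W P hN.o1 (c1.coprime_dvd_right h2) (h.ub' g1))
        (dvd_W P hN.o2 (c2.coprime_dvd_right h2) (h.ub' g2)) (dvd_W P hN.o3 (c3.coprime_dvd_right h2) (h.ub' g3))
        (dvd_W P hN.o4 (c4.coprime_dvd_right h2) (h.ub' g4))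
        (dvd_W P hN.o5 (hN.c57.coprime_dvd_right h2) (h.ub' g5'))
        (dvd_W P hN.o6 (hN.c67.coprime_dvd_right h2) (h.ub' g6)) hN.h5.ge hle7

end

/-- **Elimination of `²F₄(v)`.** -/
theorem tf4' {S : Type u} [Group S] (hS : Cfsg.Lie.Iso2F4 S) (h : E5 q S) : False := by
  obtain ⟨K, _, _, m, hm, hK, ⟨e⟩⟩ := hS
  exact core hK hm (E5.congr e h)

/-- **The row.** -/
theorem tf4 {q w : ℕ} {S : Type u} [Group S] (hS : IsNamed (.tf4 w) S) (h : E5 q S) : False := by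
  obtain ⟨K, _, _, m, hm, hK, hw, ⟨e⟩⟩ := hS.real
  exact core (hK.trans hw) hm (E5.congr e h)

end Cfsg.Agent.H228.Six
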